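import Cfsg.Agent.Lib.SpFourCC.Factor

/-!
# Every noncentral element of Sp₄ is, up to sign, a product of two conjugates (helper52)
-/

set_option autoImplicit false

namespace Cfsg.Agent.Lib.SpFourCC

open Matrix

variable {F : Type*} [Field F]

/-- The vectors. -/
abbrev Vec (F : Type*) := Fin 2 ⊕ Fin 2 → F

/-- The alternating form. -/
def w (x y : Vec F) : F := x ⬝ᵥ (Matrix.J (Fin 2) F *ᵥ y)

/-- Action. -/
def act (g : Sp4 F) (x : Vec F) : Vec F := (g : Matrix _ _ F) *ᵥ x

lemma w_eq (x y : Vec F) : w x y =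
    x (Sum.inr 0) * y (Sum.inl 0) + x (Sum.inr 1) * y (Sum.inl 1)
      - x (Sum.inl 0) * y (Sum.inr 0) - x (Sum.inl 1) * y (Sum.inr 1) := by
  simp [w, Matrix.J, dotProduct, Matrix.mulVec, Fintype.sum_sum_type, Fin.sum_univ_two,
    Matrix.one_apply]
  ring

lemma w_add_left (x y z : Vec F) : w (x + y) z = w x z + w y z := by simp only [w_eq, Pi.add_apply]; ring
lemma w_add_right (x y z : Vec F) : w z (x + y) = w z x + w z y := by simp only [w_eq, Pi.add_apply]; ring
lemma w_sub_left (x y z : Vec F) : w (x - y) z = w x z - w y z := by simp only [w_eq, Pi.sub_apply]; ring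
lemma w_sub_right (x y z : Vec F) : w z (x - y) = w z x - w z y := by simp only [w_eq, Pi.sub_apply]; ring
lemma w_smul_left (c : F) (x z : Vec F) : w (c • x) z = c * w x z := by
  simp only [w_eq, Pi.smul_apply, smul_eq_mul]; ring
lemma w_smul_right (c : F) (x z : Vec F) : w z (c • x) = c * w z x := by
  simp only [w_eq, Pi.smul_apply, smul_eq_mul]; ring
lemma w_neg_left (x z : Vec F) : w (-x) z = -w x z := by simp only [w_eq, Pi.neg_apply]; ring
lemma w_neg_right (x z : Vec F) : w z (-x) = -w z x := by simp only [w_eq, Pi.neg_apply]; ring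
lemma w_self (x : Vec F) : w x x = 0 := by simp only [w_eq]; ring
lemma w_symm (x y : Vec F) : w x y = -w y x := by simp only [w_eq]; ring

lemma w_act (g : Sp4 F) (x y : Vec F) : w (act g x) (act g y) = w x y := by
  have h := SymplecticGroup.mem_iff'.1 g.2
  simp only [w, act]
  rw [dotProduct_mulVec, Matrix.vecMul_mulVec, ← dotProduct_mulVec, Matrix.mulVec_mulVec, h]

lemma act_add (g : Sp4 F) (x y : Vec F) : act g (x + y) = act g x + act g y := Matrix.mulVec_add ..
lemma act_sub (g : Sp4 F) (x y : Vec F) : act g (x - y) = act g x - act g y := Matrix.mulVec_sub ..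
lemma act_smul (g : Sp4 F) (c : F) (x : Vec F) : act g (c • x) = c • act g x := Matrix.mulVec_smul ..

lemma w_nondeg {z : Vec F} (h : ∀ x, w x z = 0) : z = 0 := by
  funext i
  rcases i with i | i <;> fin_cases i
  · simpa [w_eq] using h (Pi.single (Sum.inr 0) 1)
  · simpa [w_eq] using h (Pi.single (Sum.inr 1) 1)
  · simpa [w_eq] using h (Pi.single (Sum.inl 0) 1)
  · simpa [w_eq] using h (Pi.single (Sum.inl 1) 1)

/-- A symplectic quadruple. -/
structure SQ (u v f₁ f₂ : Vec F) : Prop where
  uv : w u v = 0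
  ff : w f₁ f₂ = 0
  f1u : w f₁ u = 1
  f1v : w f₁ v = 0
  f2u : w f₂ u = 0
  f2v : w f₂ v = 1

/-- The matrix with the quadruple as columns. -/
def colMat (u v f₁ f₂ : Vec F) : Matrix (Fin 2 ⊕ Fin 2) (Fin 2 ⊕ Fin 2) F :=
  Matrix.of fun i k => (Sum.elim ![u, v] ![f₁, f₂] k) i

lemma transpose_mul_J_mul_apply (P Q : Matrix (Fin 2 ⊕ Fin 2) (Fin 2 ⊕ Fin 2) F)
    (i k : Fin 2 ⊕ Fin 2) :
    (Pᵀ * Matrix.J (Fin 2) F * Q) i k = w (fun r => P r i) (fun r => Q r k) := by
  rw [Matrix.mul_assoc]
  rfl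

lemma SQ.mem {u v f₁ f₂ : Vec F} (h : SQ u v f₁ f₂) :
    colMat u v f₁ f₂ ∈ Matrix.symplecticGroup (Fin 2) F := by
  rw [SymplecticGroup.mem_iff']
  ext i k
  rw [transpose_mul_J_mul_apply]
  have := h.uv; have := h.ff; have := h.f1u; have := h.f1v; have := h.f2u; have := h.f2v
  have := w_symm u v; have := w_symm f₁ f₂; have := w_symm f₁ u; have := w_symm f₁ v
  have := w_symm f₂ u; have := w_symm f₂ v
  rcases i with i | i <;> rcases k with k | k <;> fin_cases i <;> fin_cases k <;>
    simp [colMat, Matrix.J, w_self, Matrix.one_apply] <;> grind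

lemma SQ.ext_zero {u v f₁ f₂ z : Vec F} (h : SQ u v f₁ f₂) (h1 : w u z = 0) (h2 : w v z = 0)
    (h3 : w f₁ z = 0) (h4 : w f₂ z = 0) : z = 0 := by
  let P : Sp4 F := ⟨_, h.mem⟩
  apply w_nondeg
  intro x
  obtain ⟨c, rfl⟩ : ∃ c, act P c = x := ⟨act P⁻¹ x, by
    simp only [act, Matrix.mulVec_mulVec, ← Submonoid.coe_mul, mul_inv_cancel]
    simp⟩
  have : act P c = c (Sum.inl 0) • u + c (Sum.inl 1) • v + c (Sum.inr 0) • f₁
      + c (Sum.inr 1) • f₂ := by
    funext i
    show (colMat u v f₁ f₂ *ᵥ c) i = _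
    simp [colMat, Matrix.mulVec, dotProduct, Fintype.sum_sum_type, Fin.sum_univ_two]
    ring
  rw [this]
  simp [w_add_left, w_smul_left, h1, h2, h3, h4]

variable [Finite F]

/-- Goodness from a symplectic quadruple. -/
lemma good_of_quad (π : Par F) (g : Sp4 F) {u v f₁ f₂ : Vec F} (h : SQ u v f₁ f₂)
    (hA : π.Splits !![w f₁ (act g u), w f₁ (act g v); w f₂ (act g u), w f₂ (act g v)]) :
    π.Good g := by
  obtain ⟨H, N, hH, hN, hHN⟩ := π.exists_factor hA
  let P : Sp4 F := ⟨_, h.mem⟩
  have hb : ((P⁻¹ * g * P : Sp4 F) : Matrix (Fin 2 ⊕ Fin 2) (Fin 2 ⊕ Fin 2) F).toBlocks₁₁ =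
      !![w f₁ (act g u), w f₁ (act g v); w f₂ (act g u), w f₂ (act g v)] := by
    rw [Submonoid.coe_mul, Submonoid.coe_mul, SymplecticGroup.coe_inv]
    simp only [Matrix.mul_assoc]
    ext i k
    rw [← Matrix.mul_assoc _ (Matrix.J (Fin 2) F)]
    simp only [Matrix.toBlocks₁₁, Matrix.of_apply]
    rw [Matrix.mul_apply, Fintype.sum_sum_type]
    simp only [transpose_mul_J_mul_apply]
    fin_cases i <;> fin_cases k <;>
      simp [Matrix.J, Matrix.one_apply, Fin.sum_univ_two] <;> rfl
  have := (π.good_of_block (P⁻¹ * g * P) H N hH hN (hb.trans hHN)).conj P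
  simpa [mul_assoc] using this

/-- The projection onto `⟨u, g u⟩^⊥`. -/
def proj (g : Sp4 F) (u x : Vec F) : Vec F :=
  x - (w x (act g u) / w u (act g u)) • u + (w x u / w u (act g u)) • act g u

omit [Finite F] in
lemma proj_perp (g : Sp4 F) {u : Vec F} (ha : w u (act g u) ≠ 0) (x : Vec F) :
    w u (proj g u x) = 0 ∧ w (act g u) (proj g u x) = 0 := by
  constructor
  · simp only [proj, w_add_right, w_sub_right, w_smul_right, w_self]
    rw [w_symm x u]
    field_simp
    ring
  · simp only [proj, w_add_right, w_sub_right, w_smul_right, w_self]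
    rw [w_symm x (act g u), w_symm (act g u) u]
    field_simp
    ring

omit [Finite F] in
lemma exists_pair (g : Sp4 F) {u : Vec F} (ha : w u (act g u) ≠ 0) :
    ∃ e f : Vec F, (w u e = 0 ∧ w (act g u) e = 0) ∧ (w u f = 0 ∧ w (act g u) f = 0) ∧
      w f e = 1 := by
  classical
  obtain ⟨x, hx⟩ : ∃ x, proj g u x ≠ 0 := by
    by_contra h
    push Not at h
    have htop : Submodule.span F (Set.range ![u, act g u]) = ⊤ := by
      rw [eq_top_iff]
      intro x _
      have hx := h x
      unfold proj at hx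
      rw [add_eq_zero_iff_eq_neg, sub_eq_iff_eq_add] at hx
      rw [hx]
      exact Submodule.add_mem _
        (Submodule.neg_mem _ (Submodule.smul_mem _ _ (Submodule.subset_span ⟨1, rfl⟩)))
        (Submodule.smul_mem _ _ (Submodule.subset_span ⟨0, rfl⟩))
    have h1 := finrank_range_le_card (R := F) ![u, act g u]
    rw [Set.finrank, htop, finrank_top, Module.finrank_pi] at h1
    simp at h1
  obtain ⟨y, hy⟩ : ∃ y, w y (proj g u x) ≠ 0 := by
    by_contra h
    push Not at h
    exact hx (w_nondeg h)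
  obtain ⟨hu, hgu⟩ := proj_perp g ha x
  obtain ⟨hu', hgu'⟩ := proj_perp g ha y
  refine ⟨proj g u x, (w y (proj g u x))⁻¹ • proj g u y, ⟨hu, hgu⟩,
    ⟨by rw [w_smul_right, hu', mul_zero], by rw [w_smul_right, hgu', mul_zero]⟩, ?_⟩
  rw [w_smul_left]
  conv_lhs => arg 2; rw [proj, w_add_left, w_sub_left, w_smul_left, w_smul_left, hu, hgu]
  simp [inv_mul_cancel₀ hy]

/-- Generic case. -/
lemma good_generic [Fintype F] (π : Par F) (ht : (2 : F) ≠ 0 → π.t ≠ 0) (h3 : 3 ≤ Fintype.card F)
    (g gn : Sp4 F) (hneg : ∀ x, act gn x = -act g x) {u v : Vec F} (ha : w u (act g u) ≠ 0)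
    (huv : w u v = 0) (hguv : w (act g u) v = 0) (hb : w v (act g v) ≠ 0) :
    π.Good g ∨ π.Good gn := by
  set a := w u (act g u) with ha_def
  set b := w v (act g v) with hb_def
  set c := w u (act g v) with hc_def
  have hgg : w (act g u) (act g v) = 0 := by rw [w_act, huv]
  let f₁ := (-a⁻¹) • act g u
  let f₂ := (-b⁻¹) • act g v + (c / (a * b)) • act g u
  have key : ∀ p q r : F, SQ u v (f₁ + p • u + q • v) (f₂ + q • u + r • v) ∧
      w (f₁ + p • u + q • v) (act g u) = p * a ∧
      w (f₁ + p • u + q • v) (act g v) = p * c + q * b ∧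
      w (f₂ + q • u + r • v) (act g u) = q * a ∧
      w (f₂ + q • u + r • v) (act g v) = q * c + r * b := by
    intro p q r
    have e1 : w (act g u) u = -a := w_symm _ _
    have e2 : w (act g v) u = -c := w_symm _ _
    have e3 : w (act g v) v = -b := w_symm _ _
    have e4 : w v (act g u) = 0 := by rw [w_symm, hguv, neg_zero]
    have e5 : w v u = 0 := by rw [w_symm, huv, neg_zero]
    have e6 : w (act g v) (act g u) = 0 := by rw [w_act, e5]
    refine ⟨⟨huv, ?_, ?_, ?_, ?_, ?_⟩, ?_, ?_, ?_, ?_⟩ <;>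
      simp only [f₁, f₂, w_add_left, w_add_right, w_smul_left, w_smul_right, w_self, huv, hguv,
        hgg, e1, e2, e3, e4, e5, e6, ← ha_def, ← hb_def, ← hc_def] <;>
      field_simp <;> ring
  by_cases hα : ∃ α : F, α ≠ 0 ∧ α⁻¹ - α ≠ 0
  · obtain ⟨α, hα0, hα1⟩ := hα
    obtain ⟨hSQ, h00, h01, h10, h11⟩ := key (α / a) 0 (α⁻¹ / b)
    left
    refine good_of_quad π g hSQ ?_
    rw [h00, h01, h10, h11, div_mul_cancel₀ _ ha, zero_mul, zero_mul, zero_mul, zero_add,
      div_mul_cancel₀ _ hb, add_zero]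
    exact π.splits_diag hα0 hα1
  · push Not at hα
    have h2 : (2 : F) ≠ 0 := by
      intro h2
      classical
      have hsub : (Finset.univ : Finset F) ⊆ {0, 1} := by
        intro α _
        rcases eq_or_ne α 0 with rfl | h0
        · simp
        · have := hα α h0
          have hsq : (α - 1) * (α - 1) = 0 := by
            field_simp at this
            linear_combination -this + (1 - α) * h2
          simp [sub_eq_zero.1 (mul_self_eq_zero.1 hsq)]
      have := Finset.card_le_card hsub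
      rw [Finset.card_univ] at this
      exact absurd (this.trans Finset.card_le_two) (by omega)
    obtain ⟨hSQ, h00, h01, h10, h11⟩ := key (-1 / a) 0 (-1 / b)
    by_cases hβ : -1 / a * c = 0
    · right
      refine good_of_quad π gn hSQ ?_
      rw [hneg, hneg, w_neg_right, w_neg_right, w_neg_right, w_neg_right, h00, h01, h10, h11,
        div_mul_cancel₀ _ ha, zero_mul, zero_mul, zero_mul, zero_add, div_mul_cancel₀ _ hb,
        add_zero, hβ]
      convert π.splits_one using 1
      ext i k; fin_cases i <;> fin_cases k <;> simp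
    · left
      refine good_of_quad π g hSQ ?_
      rw [h00, h01, h10, h11, div_mul_cancel₀ _ ha, zero_mul, zero_mul, zero_mul, zero_add,
        div_mul_cancel₀ _ hb, add_zero]
      exact π.splits_neg_shear h2 (ht h2) hβ

/-- The case `w x (g x) = 0` for all `x`. -/
lemma good_alternating [Fintype F] (π : Par F) (g : Sp4 F) (hQ : ∀ x, w x (act g x) = 0)
    {u : Vec F} (hu : ∀ k : F, act g u ≠ k • u) : π.Good g := by
  obtain ⟨y₀, hy₀⟩ : ∃ y, w y u ≠ 0 := by
    by_contra h
    push Not at h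
    have := w_nondeg h
    exact hu 0 (by rw [this, ← zero_smul F (0 : Vec F), act_smul]; simp)
  obtain ⟨v, huv, hc⟩ : ∃ v, w u v = 0 ∧ w v (act g u) ≠ 0 := by
    by_contra h
    push Not at h
    apply hu (w y₀ (act g u) / w y₀ u)
    rw [← sub_eq_zero]
    apply w_nondeg
    intro x
    have := h (x - (w x u / w y₀ u) • y₀) (by
      rw [w_sub_right, w_smul_right, w_symm u x, w_symm u y₀]; field_simp; ring)
    rw [w_sub_left, w_smul_left] at this
    rw [w_sub_right, w_smul_right]
    field_simp at this ⊢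
    linear_combination this
  set c := w u (act g v) with hc_def
  have hpol : w v (act g u) = -c := by
    have := hQ (u + v)
    rw [act_add, w_add_left, w_add_right, w_add_right, hQ, hQ] at this
    linear_combination this
  have hc0 : c ≠ 0 := fun h => hc (by rw [hpol, h, neg_zero])
  have hgg : w (act g u) (act g v) = 0 := by rw [w_act, huv]
  let f₁ := (-c⁻¹) • act g v
  let f₂ := c⁻¹ • act g u
  have key : ∀ p q r : F, SQ u v (f₁ + p • u + q • v) (f₂ + q • u + r • v) ∧
      w (f₁ + p • u + q • v) (act g u) = -(q * c) ∧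
      w (f₁ + p • u + q • v) (act g v) = p * c ∧
      w (f₂ + q • u + r • v) (act g u) = -(r * c) ∧
      w (f₂ + q • u + r • v) (act g v) = q * c := by
    intro p q r
    have e1 : w (act g u) u = 0 := by rw [w_symm, hQ, neg_zero]
    have e2 : w (act g v) u = -c := w_symm _ _
    have e3 : w (act g v) v = 0 := by rw [w_symm, hQ, neg_zero]
    have e4 : w (act g u) v = c := by rw [w_symm, hpol, neg_neg]
    have e5 : w v u = 0 := by rw [w_symm, huv, neg_zero]
    have e6 : w (act g v) (act g u) = 0 := by rw [w_act, e5]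
    refine ⟨⟨huv, ?_, ?_, ?_, ?_, ?_⟩, ?_, ?_, ?_, ?_⟩ <;>
      simp only [f₁, f₂, w_add_left, w_add_right, w_smul_left, w_smul_right, w_self, huv,
        hgg, e1, e2, e3, e4, e5, e6, hQ, hpol, ← hc_def] <;>
      field_simp <;> ring
  by_cases h2 : (2 : F) = 0
  · obtain ⟨hSQ, h00, h01, h10, h11⟩ := key 0 c⁻¹ 0
    refine good_of_quad π g hSQ ?_
    rw [h00, h01, h10, h11, inv_mul_cancel₀ hc0]
    have hm : (-1 : F) = 1 := by linear_combination -h2
    convert π.splits_one using 1
    ext i k; fin_cases i <;> fin_cases k <;> simp [hm]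
  · obtain ⟨hSQ, h00, h01, h10, h11⟩ := key (-c⁻¹) 0 (-c⁻¹)
    refine good_of_quad π g hSQ ?_
    rw [h00, h01, h10, h11, zero_mul, neg_zero, neg_mul, inv_mul_cancel₀ hc0, neg_neg]
    exact π.splits_rot h2

/-- The degenerate case, normalised. -/
lemma good_degenerate_one (π : Par F) (g : Sp4 F) {u e f : Vec F} (ha : w u (act g u) ≠ 0)
    (he : w u e = 0 ∧ w (act g u) e = 0) (hf : w u f = 0 ∧ w (act g u) f = 0) (hfe : w f e = 1)
    {k l : F} (hge : act g e = e + k • act g u) (hgf : act g f = f + l • act g u) :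
    π.Good g := by
  obtain ⟨v₀, v₁, hv0, hv1, hpair, hfix⟩ : ∃ v₀ v₁ : Vec F, (w u v₀ = 0 ∧ w (act g u) v₀ = 0) ∧
      (w u v₁ = 0 ∧ w (act g u) v₁ = 0) ∧ w v₁ v₀ = 1 ∧ act g v₀ = v₀ := by
    by_cases hk : k = 0
    · exact ⟨e, f, he, hf, hfe, by rw [hge, hk, zero_smul, add_zero]⟩
    · refine ⟨l • e - k • f, k⁻¹ • e, ⟨?_, ?_⟩, ⟨?_, ?_⟩, ?_, ?_⟩
      · simp [w_sub_right, w_smul_right, he, hf]
      · simp [w_sub_right, w_smul_right, he, hf]
      · simp [w_smul_right, he]
      · simp [w_smul_right, he]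
      · rw [w_smul_left, w_sub_right, w_smul_right, w_smul_right, w_self, w_symm e f, hfe]
        field_simp; ring
      · rw [act_sub, act_smul, act_smul, hge, hgf]
        module
  set a := w u (act g u) with ha_def
  have e1 : w (act g u) u = -a := w_symm _ _
  have hSQ : SQ u v₀ ((-a⁻¹) • (act g u - u)) v₁ := by
    refine ⟨hv0.1, ?_, ?_, ?_, ?_, hpair⟩
    · simp [w_neg_left, w_smul_left, w_sub_left, hv1]
    · simp [w_neg_left, w_smul_left, w_sub_left, w_self, e1, ha]
    · simp [w_neg_left, w_smul_left, w_sub_left, hv0]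
    · rw [w_symm, hv1.1, neg_zero]
  refine good_of_quad π g hSQ ?_
  have h00 : w ((-a⁻¹) • (act g u - u)) (act g u) = 1 := by
    simp [w_neg_left, w_smul_left, w_sub_left, w_self, ← ha_def, ha]
  have h01 : w ((-a⁻¹) • (act g u - u)) (act g v₀) = 0 := by
    simp [w_neg_left, w_smul_left, w_sub_left, hfix, hv0]
  have h10 : w v₁ (act g u) = 0 := by rw [w_symm, hv1.2, neg_zero]
  rw [h00, h01, h10, hfix, hpair]
  convert π.splits_one using 1
  ext i j; fin_cases i <;> fin_cases j <;> simp

/-- Every noncentral element is good up to sign. -/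
theorem good_or_neg [Fintype F] (π : Par F) (ht : (2 : F) ≠ 0 → π.t ≠ 0)
    (h3 : 3 ≤ Fintype.card F) (g gn : Sp4 F) (hneg : ∀ x, act gn x = -act g x)
    (hnc : ∃ u, ∀ k : F, act g u ≠ k • u) : π.Good g ∨ π.Good gn := by
  by_cases hQ : ∀ x, w x (act g x) = 0
  · obtain ⟨u, hu⟩ := hnc
    exact Or.inl (good_alternating π g hQ hu)
  push Not at hQ
  obtain ⟨u, ha⟩ := hQ
  by_cases hgen : ∃ v, w u v = 0 ∧ w (act g u) v = 0 ∧ w v (act g v) ≠ 0
  · obtain ⟨v, h1, h2, h4⟩ := hgen
    exact good_generic π ht h3 g gn hneg ha h1 h2 h4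
  push Not at hgen
  obtain ⟨e, f, he, hf, hfe⟩ := exists_pair g ha
  set a := w u (act g u) with ha_def
  have e1 : w (act g u) u = -a := w_symm _ _
  have hSQ : SQ u e ((-a⁻¹) • act g u) f := by
    refine ⟨he.1, ?_, ?_, ?_, ?_, hfe⟩
    · simp [w_neg_left, w_smul_left, hf]
    · simp [w_neg_left, w_smul_left, e1, ha]
    · simp [w_neg_left, w_smul_left, he]
    · rw [w_symm, hf.1, neg_zero]
  set μ := w f (act g e) with hμ
  have hQe : w e (act g e) = 0 := hgen e he.1 he.2
  have hQf : w f (act g f) = 0 := hgen f hf.1 hf.2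
  have hμ' : w e (act g f) = -μ := by
    have := hgen (e + f) (by rw [w_add_right, he.1, hf.1, add_zero])
      (by rw [w_add_right, he.2, hf.2, add_zero])
    rw [act_add, w_add_left, w_add_right, w_add_right, hQe, hQf, ← hμ] at this
    linear_combination this
  have hgue : w (act g u) (act g e) = 0 := by rw [w_act, he.1]
  have hguf : w (act g u) (act g f) = 0 := by rw [w_act, hf.1]
  set k := w u (act g e) / a with hk
  set l := w u (act g f) / a with hl
  have hge : act g e = μ • e + k • act g u := by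
    rw [← sub_eq_zero]
    apply hSQ.ext_zero
    · simp [w_sub_right, w_add_right, w_smul_right, he, ← ha_def, hk, ha]
    · have h0 : w e (act g u) = 0 := by rw [w_symm, he.2, neg_zero]
      simp [w_sub_right, w_add_right, w_smul_right, w_self, hQe, h0]
    · simp [w_neg_left, w_smul_left, w_sub_right, w_add_right, w_smul_right, w_self, hgue, he]
    · have h0 : w f (act g u) = 0 := by rw [w_symm, hf.2, neg_zero]
      simp [w_sub_right, w_add_right, w_smul_right, hfe, h0, ← hμ]
  have hgf : act g f = μ • f + l • act g u := by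
    have hef : w e f = -1 := by rw [w_symm, hfe]
    rw [← sub_eq_zero]
    apply hSQ.ext_zero
    · simp [w_sub_right, w_add_right, w_smul_right, hf, ← ha_def, hl, ha]
    · have h0 : w e (act g u) = 0 := by rw [w_symm, he.2, neg_zero]
      simp [w_sub_right, w_add_right, w_smul_right, hef, hμ', h0]
    · simp [w_neg_left, w_smul_left, w_sub_right, w_add_right, w_smul_right, w_self, hguf, hf]
    · have h0 : w f (act g u) = 0 := by rw [w_symm, hf.2, neg_zero]
      simp [w_sub_right, w_add_right, w_smul_right, w_self, h0, hQf]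
  have hsq : μ * μ = 1 := by
    have := w_act g f e
    rw [hge, hgf, hfe] at this
    have h0 : w f (act g u) = 0 := by rw [w_symm, hf.2, neg_zero]
    simpa [w_add_left, w_add_right, w_smul_left, w_smul_right, w_self, hfe, he, h0] using this
  rcases mul_self_eq_one_iff.1 hsq with h | h
  · left
    exact good_degenerate_one π g ha he hf hfe (by rw [hge, h, one_smul]) (by rw [hgf, h, one_smul])
  · right
    have hgu : act gn u = -act g u := hneg u
    refine good_degenerate_one π gn (u := u) ?_ (k := k) (l := l) ⟨he.1, ?_⟩ ⟨hf.1, ?_⟩ hfe ?_ ?_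
    · rw [hgu, w_neg_right, neg_ne_zero]; exact ha
    · rw [hgu, w_neg_left, he.2, neg_zero]
    · rw [hgu, w_neg_left, hf.2, neg_zero]
    · rw [hneg, hge, h, hgu]; module
    · rw [hneg, hgf, h, hgu]; module

end Cfsg.Agent.Lib.SpFourCC
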