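import Cfsg.Agent.Lib.SpFourCC.Product

/-!
# Splitting a `GL₂` block into two class elements (helper52)
-/

set_option autoImplicit false

namespace Cfsg.Agent.Lib.SpFourCC

open Matrix

variable {F : Type*} [Field F]

/-- `A` splits with respect to the parameters. -/
def Par.Splits (π : Par F) (A : Matrix (Fin 2) (Fin 2) F) : Prop :=
  A.det = 1 ∧ ∃ M : Matrix (Fin 2) (Fin 2) F,
    M.trace = π.t ∧ M.det = π.n ∧ (A.adjugate * M).trace = π.t

lemma Par.exists_factor (π : Par F) {A : Matrix (Fin 2) (Fin 2) F} (h : π.Splits A) :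
    ∃ H N : GL (Fin 2) F, π.Has H ∧ π.Has N ∧
      A = ((H * twist N : GL (Fin 2) F) : Matrix (Fin 2) (Fin 2) F) := by
  obtain ⟨hA, M, ht, hn, htA⟩ := h
  let A' : GL (Fin 2) F := Matrix.nonsingInvUnit A (by rw [hA]; exact isUnit_one)
  let H : GL (Fin 2) F := Matrix.nonsingInvUnit M (by rw [hn]; exact isUnit_iff_ne_zero.2 π.n_ne_zero)
  have hinv : (↑A'⁻¹ : Matrix (Fin 2) (Fin 2) F) = A.adjugate := by
    show A⁻¹ = _
    rw [Matrix.inv_def, hA, Ring.inverse_one, one_smul]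
  refine ⟨H, twist (H⁻¹ * A'), ⟨ht, hn⟩, ?_, ?_⟩
  · have hval : ((twist (H⁻¹ * A') : GL (Fin 2) F) : Matrix (Fin 2) (Fin 2) F) =
        (A.adjugate * M)ᵀ := by
      show ((↑((H⁻¹ * A')⁻¹) : Matrix (Fin 2) (Fin 2) F))ᵀ = _
      rw [_root_.mul_inv_rev, inv_inv, Units.val_mul, hinv]
      rfl
    refine ⟨?_, ?_⟩
    · rw [hval, trace_transpose, htA]
    · rw [hval, det_transpose, det_mul, det_adjugate, hA, hn]
      simp
  · have : twist (twist (H⁻¹ * A')) = H⁻¹ * A' := Units.ext (by simp [twist])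
    rw [this, mul_inv_cancel_left]
    rfl

lemma Par.splits_one (π : Par F) : π.Splits 1 :=
  ⟨det_one, (π.comp : Matrix (Fin 2) (Fin 2) F), by simp [Par.comp, trace_fin_two],
    by simp [Par.comp, det_fin_two], by simp [Par.comp, trace_fin_two]⟩

lemma Par.splits_diag (π : Par F) {a β : F} (ha : a ≠ 0) (ha' : a⁻¹ - a ≠ 0) :
    π.Splits !![a, β; 0, a⁻¹] := by
  refine ⟨by simp [det_fin_two, mul_inv_cancel₀ ha], ?_⟩
  obtain ⟨x, hx⟩ : ∃ x, x * (a⁻¹ - a) = π.t - a * π.t + β := ⟨_, div_mul_cancel₀ _ ha'⟩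
  refine ⟨!![x, x * (π.t - x) - π.n; 1, π.t - x], by simp [trace_fin_two],
    by simp [det_fin_two], ?_⟩
  rw [adjugate_fin_two]
  simp [trace_fin_two, Matrix.mul_apply, Fin.sum_univ_two]
  linear_combination hx

lemma Par.splits_neg_shear (π : Par F) {β : F} (h2 : (2 : F) ≠ 0) (ht : π.t ≠ 0) (hβ : β ≠ 0) :
    π.Splits !![-1, β; 0, -1] := by
  refine ⟨by simp [det_fin_two], ?_⟩
  have hz : -(2 * π.t) / β ≠ 0 := div_ne_zero (neg_ne_zero.2 (mul_ne_zero h2 ht)) hβ
  refine ⟨!![0, -π.n / (-(2 * π.t) / β); -(2 * π.t) / β, π.t], by simp [trace_fin_two], ?_, ?_⟩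
  · simp only [det_fin_two, Matrix.of_apply, Matrix.cons_val', Matrix.cons_val_zero,
      Matrix.cons_val_one, Matrix.empty_val', Matrix.cons_val_fin_one]
    rw [zero_mul, div_mul_cancel₀ _ hz]
    simp
  · rw [adjugate_fin_two]
    simp [trace_fin_two, Matrix.mul_apply, Fin.sum_univ_two]
    field_simp
    ring

lemma Par.splits_rot [Fintype F] (π : Par F) (h2 : (2 : F) ≠ 0) :
    π.Splits !![0, -1; 1, 0] := by
  refine ⟨by simp [det_fin_two], ?_⟩
  have hodd : Fintype.card F % 2 = 1 :=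
    FiniteField.odd_card_of_char_ne_two fun h =>
      h2 (by exact_mod_cast (ringChar.spec F 2).2 (by rw [h]))
  obtain ⟨X, Y, hXY⟩ := FiniteField.exists_root_sum_quadratic
    (f := (Polynomial.X ^ 2 : Polynomial F))
    (g := Polynomial.X ^ 2 - Polynomial.C (π.t ^ 2 / 2 - π.n))
    (Polynomial.degree_X_pow 2) (Polynomial.degree_X_pow_sub_C (by norm_num) _) hodd
  simp at hXY
  refine ⟨!![X + π.t / 2, Y - π.t / 2; Y + π.t / 2, π.t / 2 - X], ?_, ?_, ?_⟩
  · simp [trace_fin_two]; field_simp; ring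
  · simp [det_fin_two]
    field_simp at hXY ⊢
    grind
  · rw [adjugate_fin_two]
    simp [trace_fin_two, Matrix.mul_apply, Fin.sum_univ_two]
    field_simp
    ring

end Cfsg.Agent.Lib.SpFourCC
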