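import Mathlib

/-!
# The Siegel Levi of Sp₄: conjugates of a Levi element (helper52)
-/

set_option autoImplicit false

namespace Cfsg.Agent.Lib.SpFourCC

open Matrix

variable {F : Type*} [Field F]

/-- Symmetric 2×2 matrices. -/
abbrev symMat (r s u : F) : Matrix (Fin 2) (Fin 2) F := !![r, s; s, u]

lemma exists_symMat {S : Matrix (Fin 2) (Fin 2) F} (hS : Sᵀ = S) :
    ∃ r s u, S = symMat r s u := by
  refine ⟨S 0 0, S 0 1, S 1 1, ?_⟩
  have h := congrFun (congrFun hS 0) 1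
  simp only [transpose_apply] at h
  ext i j; fin_cases i <;> fin_cases j <;> simp [h]

lemma isSymm_kernel {H : Matrix (Fin 2) (Fin 2) F} (h1 : H.det ≠ 1)
    (h2 : (H.det + 1) ^ 2 ≠ H.trace ^ 2) {r s u : F}
    (h : Hᵀ * symMat r s u * H = symMat r s u) : r = 0 ∧ s = 0 ∧ u = 0 := by
  rw [det_fin_two] at h1 h2
  rw [trace_fin_two] at h2
  have e1 := congrFun (congrFun h 0) 0
  have e2 := congrFun (congrFun h 0) 1
  have e3 := congrFun (congrFun h 1) 1
  simp [Matrix.mul_apply, Fin.sum_univ_two, transpose_apply] at e1 e2 e3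
  have hD : (H 0 0 * H 1 1 - H 0 1 * H 1 0 - 1) *
      ((H 0 0 * H 1 1 - H 0 1 * H 1 0 + 1) ^ 2 - (H 0 0 + H 1 1) ^ 2) ≠ 0 :=
    mul_ne_zero (sub_ne_zero.2 h1) (sub_ne_zero.2 h2)
  generalize H 0 0 = a, H 0 1 = b, H 1 0 = c, H 1 1 = d at *
  refine ⟨(mul_eq_zero.1 ?_).resolve_left hD, (mul_eq_zero.1 ?_).resolve_left hD,
    (mul_eq_zero.1 ?_).resolve_left hD⟩
  · linear_combination ((a * d + b * c - 1) * (d * d - 1) - c * d * (2 * b * d)) * e1
      - (2 * a * c * (d * d - 1) - c * c * (2 * b * d)) * e2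
      + (2 * a * c * (c * d) - c * c * (a * d + b * c - 1)) * e3
  · linear_combination (-(a * b * (d * d - 1) - c * d * (b * b))) * e1
      + ((a * a - 1) * (d * d - 1) - c * c * (b * b)) * e2
      - ((a * a - 1) * (c * d) - c * c * (a * b)) * e3
  · linear_combination (a * b * (2 * b * d) - (a * d + b * c - 1) * (b * b)) * e1
      - ((a * a - 1) * (2 * b * d) - 2 * a * c * (b * b)) * e2
      + ((a * a - 1) * (a * d + b * c - 1) - 2 * a * c * (a * b)) * e3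

lemma exists_sym_solution [Finite F] {H : Matrix (Fin 2) (Fin 2) F} (h1 : H.det ≠ 1)
    (h2 : (H.det + 1) ^ 2 ≠ H.trace ^ 2) {S : Matrix (Fin 2) (Fin 2) F} (hS : Sᵀ = S) :
    ∃ R : Matrix (Fin 2) (Fin 2) F, Rᵀ = R ∧ Hᵀ * R * H - R = S := by
  let T := {M : Matrix (Fin 2) (Fin 2) F // Mᵀ = M}
  haveI : Finite (Matrix (Fin 2) (Fin 2) F) := Finite.of_injective _ Matrix.of.symm.injective
  let φ : T → T := fun R => ⟨Hᵀ * R.1 * H - R.1, by
    rw [transpose_sub, transpose_mul, transpose_mul, transpose_transpose, R.2, Matrix.mul_assoc]⟩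
  have hinj : Function.Injective φ := by
    intro A B hAB
    have hAB' : Hᵀ * A.1 * H - A.1 = Hᵀ * B.1 * H - B.1 := congrArg Subtype.val hAB
    have hs : (A.1 - B.1)ᵀ = A.1 - B.1 := by rw [transpose_sub, A.2, B.2]
    obtain ⟨r, s, u, e⟩ := exists_symMat hs
    have h : Hᵀ * symMat r s u * H = symMat r s u := by
      rw [← e, Matrix.mul_sub, Matrix.sub_mul]
      rw [sub_eq_sub_iff_sub_eq_sub] at hAB'
      exact hAB'
    obtain ⟨rfl, rfl, rfl⟩ := isSymm_kernel h1 h2 h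
    apply Subtype.ext
    rw [← sub_eq_zero, e]
    ext i j; fin_cases i <;> fin_cases j <;> rfl
  obtain ⟨R, hR⟩ := (Finite.injective_iff_surjective.1 hinj) ⟨S, hS⟩
  exact ⟨R.1, R.2, congrArg Subtype.val hR⟩

/-- `Sp₄(F)`. -/
abbrev Sp4 (F : Type*) [Field F] : Type _ := ↥(Matrix.symplecticGroup (Fin 2) F)

lemma lower_mem {S : Matrix (Fin 2) (Fin 2) F} (hS : Sᵀ = S) :
    fromBlocks 1 0 S 1 ∈ Matrix.symplecticGroup (Fin 2) F := by
  rw [SymplecticGroup.mem_iff, Matrix.J, fromBlocks_transpose, fromBlocks_multiply,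
    fromBlocks_multiply]
  simp [hS]

/-- Lower unipotent element. -/
def lower (S : Matrix (Fin 2) (Fin 2) F) (hS : Sᵀ = S) : Sp4 F :=
  ⟨fromBlocks 1 0 S 1, lower_mem hS⟩

lemma levi_mem (K : GL (Fin 2) F) :
    fromBlocks (K : Matrix (Fin 2) (Fin 2) F) 0 0 ((↑K⁻¹ : Matrix (Fin 2) (Fin 2) F)ᵀ) ∈
      Matrix.symplecticGroup (Fin 2) F := by
  have e1 : (K : Matrix (Fin 2) (Fin 2) F) * (↑K⁻¹ : Matrix (Fin 2) (Fin 2) F) = 1 := K.mul_inv
  rw [SymplecticGroup.mem_iff, Matrix.J, fromBlocks_transpose, fromBlocks_multiply,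
    fromBlocks_multiply]
  simp only [Matrix.mul_zero, Matrix.zero_mul, Matrix.mul_one, Matrix.mul_neg, Matrix.neg_mul,
    transpose_zero, transpose_transpose, neg_zero, add_zero, zero_add]
  rw [← transpose_mul, e1, transpose_one]

/-- The Levi embedding `GL₂ → Sp₄`. -/
def levi : GL (Fin 2) F →* Sp4 F where
  toFun K := ⟨_, levi_mem K⟩
  map_one' := by
    apply Subtype.ext
    simp [fromBlocks_one]
  map_mul' A B := by
    apply Subtype.ext
    simp [fromBlocks_multiply, _root_.mul_inv_rev, transpose_mul]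

@[simp] lemma levi_val (K : GL (Fin 2) F) : ((levi K : Sp4 F) : Matrix _ _ F) =
    fromBlocks (K : Matrix (Fin 2) (Fin 2) F) 0 0 ((↑K⁻¹ : Matrix (Fin 2) (Fin 2) F)ᵀ) := rfl

/-- `K ↦ (K⁻¹)ᵀ`. -/
def twist (K : GL (Fin 2) F) : GL (Fin 2) F where
  val := (↑K⁻¹ : Matrix (Fin 2) (Fin 2) F)ᵀ
  inv := (K : Matrix (Fin 2) (Fin 2) F)ᵀ
  val_inv := by rw [← transpose_mul, K.mul_inv, transpose_one]
  inv_val := by rw [← transpose_mul, K.inv_mul, transpose_one]

lemma symJ_mul_levi (K : GL (Fin 2) F) :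
    (SymplecticGroup.symJ (Fin 2) F) * levi K * (SymplecticGroup.symJ (Fin 2) F)⁻¹ =
      levi (twist K) := by
  rw [mul_inv_eq_iff_eq_mul]
  apply Subtype.ext
  show Matrix.J (Fin 2) F * _ = _ * Matrix.J (Fin 2) F
  simp [Matrix.J, levi_val, fromBlocks_multiply, twist]

lemma exists_lower_conj [Finite F] (K : GL (Fin 2) F)
    (h1 : (K : Matrix (Fin 2) (Fin 2) F).det ≠ 1)
    (h2 : ((K : Matrix (Fin 2) (Fin 2) F).det + 1) ^ 2 ≠ (K : Matrix (Fin 2) (Fin 2) F).trace ^ 2)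
    (S : Matrix (Fin 2) (Fin 2) F) (hS : Sᵀ = S) :
    ∃ c : Sp4 F, lower S hS * levi K = c * levi K * c⁻¹ := by
  set H := (K : Matrix (Fin 2) (Fin 2) F) with hH
  set H' := (↑K⁻¹ : Matrix (Fin 2) (Fin 2) F) with hH'
  have e1 : H' * H = 1 := K.inv_mul
  have hS' : (Hᵀ * S * H)ᵀ = Hᵀ * S * H := by
    rw [transpose_mul, transpose_mul, transpose_transpose, hS, Matrix.mul_assoc]
  obtain ⟨R, hR, hReq⟩ := exists_sym_solution h1 h2 hS'
  refine ⟨lower R hR, ?_⟩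
  rw [eq_mul_inv_iff_mul_eq]
  apply Subtype.ext
  show fromBlocks 1 0 S 1 * fromBlocks H 0 0 H'ᵀ * fromBlocks 1 0 R 1 =
    fromBlocks 1 0 R 1 * fromBlocks H 0 0 H'ᵀ
  simp only [fromBlocks_multiply, Matrix.one_mul, Matrix.mul_one, Matrix.mul_zero,
    Matrix.zero_mul, add_zero, zero_add]
  congr 1
  have e2 : H'ᵀ * Hᵀ = 1 := by
    rw [← transpose_mul, show H * H' = 1 from K.mul_inv, transpose_one]
  have e3 := congrArg (H'ᵀ * ·) hReq
  simp only [Matrix.mul_sub] at e3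
  rw [← Matrix.mul_assoc, ← Matrix.mul_assoc, e2, Matrix.one_mul, ← Matrix.mul_assoc,
    ← Matrix.mul_assoc, e2, Matrix.one_mul] at e3
  rw [← e3, sub_add_cancel]

end Cfsg.Agent.Lib.SpFourCC
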