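import Cfsg.Agent.Lib.SpFourCC.Cases

/-!
# Parameters, semisimplicity of the base element, and centrality (helper52)
-/

set_option autoImplicit false

namespace Cfsg.Agent.Lib.SpFourCC

open Matrix

variable {F : Type*} [Field F] [Fintype F]

lemma exists_par (h3 : 3 ≤ Fintype.card F) :
    ∃ π : Par F, (2 : F) ≠ 0 → π.t ≠ 0 := by
  classical
  by_cases h2 : (2 : F) = 0
  · obtain ⟨c, hc⟩ : ∃ c : F, ∀ y : F, y * y + y ≠ c := by
      by_contra h
      push Not at h
      have hsurj : Function.Surjective fun y : F => y * y + y := h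
      have := Finite.injective_iff_surjective.2 hsurj
      exact one_ne_zero (this (show (1 : F) * 1 + 1 = 0 * 0 + 0 by linear_combination h2))
    have hc0 : c ≠ 0 := fun h => hc 0 (by rw [h]; simp)
    obtain ⟨s, hs0, hs1⟩ : ∃ s : F, s ≠ 0 ∧ s * s * c ≠ 1 := by
      by_cases hc1 : c = 1
      · obtain ⟨α, hα⟩ : ∃ α : F, α ∉ ({0, 1} : Finset F) := by
          by_contra h
          push Not at h
          have := Finset.card_le_card (fun x (_ : x ∈ (Finset.univ : Finset F)) => h x)
          rw [Finset.card_univ] at this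
          exact absurd (this.trans Finset.card_le_two) (by omega)
        simp at hα
        refine ⟨α, hα.1, fun h => hα.2 ?_⟩
        rw [hc1, mul_one] at h
        rcases mul_self_eq_one_iff.1 h with h | h
        · exact h
        · rw [h]; linear_combination -h2
      · exact ⟨1, one_ne_zero, by simpa using hc1⟩
    refine ⟨⟨s, s * s * c, mul_ne_zero (mul_ne_zero hs0 hs0) hc0, hs1, fun r hr => hc (r / s) ?_⟩,
      fun h => absurd h2 h⟩
    field_simp
    linear_combination hr + (s * r - s * s * c) * h2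
  · have h4 : (4 : F) ≠ 0 := by
      rw [show (4 : F) = 2 * 2 by norm_num]; exact mul_ne_zero h2 h2
    obtain ⟨δ, hδ⟩ := FiniteField.exists_nonsquare (F := F) fun h =>
      h2 (by exact_mod_cast (ringChar.spec F 2).2 (by rw [h]))
    obtain ⟨δ', hδ', hne⟩ : ∃ δ' : F, ¬ IsSquare δ' ∧ (1 - δ') / 4 ≠ 1 := by
      by_cases h : (1 - δ) / 4 = 1
      · refine ⟨4 * δ, fun ⟨r, hr⟩ => hδ ⟨r / 2, ?_⟩, fun h' => ?_⟩
        · field_simp
          linear_combination hr
        · field_simp at h h'
          have h30 : δ * 3 = 0 := by linear_combination h - h'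
          rcases mul_eq_zero.1 h30 with hd | hd
          · exact hδ ⟨0, by simp [hd]⟩
          · exact hδ ⟨0, by linear_combination -h - hd⟩
      · exact ⟨δ, hδ, h⟩
    refine ⟨⟨1, (1 - δ') / 4, fun h => hδ' ⟨1, ?_⟩, hne, fun r hr => hδ' ⟨2 * r - 1, ?_⟩⟩,
      fun _ => one_ne_zero⟩
    · field_simp at h
      linear_combination -h
    · field_simp at hr
      linear_combination -hr

lemma not_dvd_orderOf_comp (π : Par F) (p : ℕ) [Fact p.Prime] [CharP F p] :
    ¬ p ∣ orderOf π.comp := by
  intro hdvd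
  have hp := (Fact.out : p.Prime)
  have hpos := orderOf_pos π.comp
  obtain ⟨k, hk⟩ := hdvd
  set y := π.comp ^ k with hy
  have hy1 : y ≠ 1 := by
    intro h
    have := orderOf_dvd_of_pow_eq_one h
    rw [hk] at this
    have hk0 : 0 < k := by
      rcases Nat.eq_zero_or_pos k with rfl | h
      · rw [Nat.mul_zero] at hk; omega
      · exact h
    have := Nat.le_of_dvd hk0 this
    have := hp.two_le
    nlinarith
  have hyp : y ^ p = 1 := by
    rw [hy, ← pow_mul, mul_comm, ← hk, pow_orderOf_eq_one]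
  set N := (y : Matrix (Fin 2) (Fin 2) F) - 1 with hN
  have hNp : N ^ p = 0 := by
    have h1 : (y : Matrix (Fin 2) (Fin 2) F) ^ p = 1 := by
      rw [← Units.val_pow_eq_pow_val, hyp, Units.val_one]
    haveI : CharP (Matrix (Fin 2) (Fin 2) F) p := inferInstance
    rw [hN, sub_pow_char_of_commute p (Commute.one_right _), h1, one_pow, sub_self]
  have hdet : N.det = 0 := by
    have := congrArg Matrix.det hNp
    rw [det_pow, det_zero] at this
    exact eq_zero_of_pow_eq_zero this
  have hcomm : N * (π.comp : Matrix (Fin 2) (Fin 2) F) = (π.comp : Matrix _ _ F) * N := by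
    rw [hN, Matrix.sub_mul, Matrix.mul_sub, one_mul, mul_one]
    congr 1
    rw [← Units.val_mul, ← Units.val_mul, hy, pow_mul_comm']
  have e00 := congrFun (congrFun hcomm 0) 0
  have e10 := congrFun (congrFun hcomm 1) 0
  simp [Par.comp, Matrix.mul_apply, Fin.sum_univ_two] at e00 e10
  rw [det_fin_two] at hdet
  have hb : N 1 0 = 0 := by
    by_contra hb
    apply π.noRoot (-(N 0 0 / N 1 0))
    field_simp
    grind
  have ha : N 0 0 = 0 := by
    rw [hb] at e00 e10 hdet
    have : N 0 0 * N 0 0 = 0 := by grind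
    exact mul_self_eq_zero.1 this
  apply hy1
  apply Units.ext
  rw [Units.val_one, ← sub_eq_zero, ← hN]
  ext i j
  fin_cases i <;> fin_cases j <;> simp <;> grind

/-- `-1`. -/
def negOne : Sp4 F := ⟨-1, SymplecticGroup.neg_mem (one_mem _)⟩

lemma act_negOne_mul (g : Sp4 F) (x : Vec F) : act (negOne * g) x = -act g x := by
  simp [act, negOne, Matrix.neg_mulVec]

lemma negOne_mem_center : negOne ∈ Subgroup.center (Sp4 F) := by
  rw [Subgroup.mem_center_iff]
  intro h
  apply Subtype.ext
  simp [negOne]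

lemma mem_center_of_eigen (g : Sp4 F) (h : ∀ u, ∃ k : F, act g u = k • u) :
    g ∈ Subgroup.center (Sp4 F) := by
  classical
  choose k hk using h
  set M := (g : Matrix (Fin 2 ⊕ Fin 2) (Fin 2 ⊕ Fin 2) F) with hM
  have hcol : ∀ i j, M i j = k (Pi.single j 1) * (Pi.single j (1 : F) : Vec F) i := fun i j => by
    have := congrFun (hk (Pi.single j 1)) i
    simpa [act, Matrix.mulVec_single] using this
  have hoff : ∀ i j, i ≠ j → M i j = 0 := fun i j hij => by simp [hcol, hij]
  have hdiag : ∀ i j, M i i = M j j := by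
    intro i j
    by_cases hij : i = j
    · rw [hij]
    have h1 := congrFun (hk (Pi.single i 1 + Pi.single j 1)) i
    have h2 := congrFun (hk (Pi.single i 1 + Pi.single j 1)) j
    simp [act, Matrix.mulVec_add, Matrix.mulVec_single, ← hM, hoff i j hij,
      hoff j i (Ne.symm hij), hij, Ne.symm hij] at h1 h2
    rw [h1, h2]
  have hs : M = M (Sum.inl 0) (Sum.inl 0) • (1 : Matrix _ _ F) := by
    ext i j
    by_cases hij : i = j
    · subst hij; simp [hdiag i (Sum.inl 0)]
    · simp [hoff i j hij, hij]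
  rw [Subgroup.mem_center_iff]
  intro x
  apply Subtype.ext
  show (x : Matrix _ _ F) * M = M * (x : Matrix _ _ F)
  rw [hs]
  simp

/-- `PSp₄(q)`, `q ≥ 3`, has a semisimple class whose square covers the non-identity elements. -/
theorem exists_covering_class (p : ℕ) [Fact p.Prime] [CharP F p] (h3 : 3 ≤ Fintype.card F) :
    ∃ x : Sp4 F ⧸ Subgroup.center (Sp4 F), ¬ p ∣ orderOf x ∧
      ∀ g : Sp4 F ⧸ Subgroup.center (Sp4 F), g ≠ 1 →
        ∃ u v, g = (u * x * u⁻¹) * (v * x * v⁻¹) := by
  obtain ⟨π, ht⟩ := exists_par h3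
  refine ⟨QuotientGroup.mk π.x, fun h => not_dvd_orderOf_comp π p ?_, fun g hg => ?_⟩
  · exact h.trans ((orderOf_map_dvd (QuotientGroup.mk' _) π.x).trans (orderOf_map_dvd levi π.comp))
  obtain ⟨g, rfl⟩ := QuotientGroup.mk_surjective g
  have hnc : ∃ u, ∀ k : F, act g u ≠ k • u := by
    by_contra h
    push Not at h
    exact hg ((QuotientGroup.eq_one_iff g).2 (mem_center_of_eigen g h))
  rcases good_or_neg π ht h3 g (negOne * g) (act_negOne_mul g) hnc with h | h <;>
    obtain ⟨u, v, huv⟩ := h <;> refine ⟨QuotientGroup.mk u, QuotientGroup.mk v, ?_⟩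
  · rw [huv]; rfl
  · have : (QuotientGroup.mk g : Sp4 F ⧸ Subgroup.center (Sp4 F)) = QuotientGroup.mk (negOne * g) := by
      rw [QuotientGroup.mk_mul, (QuotientGroup.eq_one_iff negOne).2 negOne_mem_center, one_mul]
    rw [this, huv]; rfl

end Cfsg.Agent.Lib.SpFourCC
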