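import Cfsg.Agent.Lib.SpFourCC.Levi

/-!
# Products of two conjugates of an irreducible Levi element of Sp₄ (helper52)
-/

set_option autoImplicit false

namespace Cfsg.Agent.Lib.SpFourCC

open Matrix

variable {F : Type*} [Field F]

/-- Parameters of an irreducible characteristic polynomial `X² - tX + n`. -/
structure Par (F : Type*) [Field F] where
  t : F
  n : F
  n_ne_zero : n ≠ 0
  n_ne_one : n ≠ 1
  noRoot : ∀ r : F, r * r - t * r + n ≠ 0

/-- The companion element. -/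
def Par.comp (π : Par F) : GL (Fin 2) F where
  val := !![0, -π.n; 1, π.t]
  inv := !![π.t / π.n, 1; -π.n⁻¹, 0]
  val_inv := by
    have := π.n_ne_zero
    ext i j; fin_cases i <;> fin_cases j <;> simp [Matrix.mul_apply, Fin.sum_univ_two] <;> grind
  inv_val := by
    have := π.n_ne_zero
    ext i j; fin_cases i <;> fin_cases j <;> simp [Matrix.mul_apply, Fin.sum_univ_two] <;> grind

/-- The base element. -/
def Par.x (π : Par F) : Sp4 F := levi π.comp

lemma Par.sq_ne (π : Par F) : (π.n + 1) ^ 2 ≠ π.t ^ 2 := by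
  intro h
  rcases mul_eq_zero.1 (show (1 + π.n - π.t) * (1 + π.n + π.t) = 0 by linear_combination h) with h' | h'
  · exact π.noRoot 1 (by linear_combination h')
  · exact π.noRoot (-1) (by linear_combination h')

/-- Having the prescribed trace and determinant. -/
def Par.Has (π : Par F) (K : GL (Fin 2) F) : Prop :=
  (K : Matrix (Fin 2) (Fin 2) F).trace = π.t ∧ (K : Matrix (Fin 2) (Fin 2) F).det = π.n

lemma Par.exists_levi_conj (π : Par F) {K : GL (Fin 2) F} (hK : π.Has K) :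
    ∃ c : Sp4 F, levi K = c * π.x * c⁻¹ := by
  obtain ⟨M, hM⟩ : ∃ M, M = (K : Matrix (Fin 2) (Fin 2) F) := ⟨_, rfl⟩
  obtain ⟨ht, hn⟩ := hK
  rw [← hM, trace_fin_two] at ht
  rw [← hM, det_fin_two] at hn
  have hz : M 1 0 ≠ 0 := by
    intro h
    exact π.noRoot (M 0 0) (by rw [h] at hn; linear_combination (M 0 0) * ht - hn)
  have hdet : IsUnit (!![1, M 0 0; 0, M 1 0] : Matrix (Fin 2) (Fin 2) F).det := by
    simp [hz]
  let L : GL (Fin 2) F := Matrix.nonsingInvUnit _ hdet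
  have key : K = L * π.comp * L⁻¹ := by
    rw [eq_mul_inv_iff_mul_eq]
    apply Units.ext
    rw [Units.val_mul, Units.val_mul, ← hM]
    show M * !![1, M 0 0; 0, M 1 0] = !![1, M 0 0; 0, M 1 0] * !![0, -π.n; 1, π.t]
    ext i j
    fin_cases i <;> fin_cases j <;> simp [Matrix.mul_apply, Fin.sum_univ_two] <;> grind
  exact ⟨levi L, by rw [key, map_mul, map_mul, map_inv]; rfl⟩

/-- Product of two conjugates of the base element. -/
def Par.Good (π : Par F) (g : Sp4 F) : Prop :=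
  ∃ u v : Sp4 F, g = (u * π.x * u⁻¹) * (v * π.x * v⁻¹)

lemma Par.Good.conj {π : Par F} {g : Sp4 F} (h : π.Good g) (c : Sp4 F) :
    π.Good (c * g * c⁻¹) := by
  obtain ⟨u, v, rfl⟩ := h
  exact ⟨c * u, c * v, by group⟩

lemma exists_decomp (P : Sp4 F) (K : GL (Fin 2) F)
    (hK : (P : Matrix (Fin 2 ⊕ Fin 2) (Fin 2 ⊕ Fin 2) F).toBlocks₁₁ =
      (K : Matrix (Fin 2) (Fin 2) F)) :
    ∃ (S T : Matrix (Fin 2) (Fin 2) F) (hS : Sᵀ = S) (hT : Tᵀ = T),
      P = lower S hS * levi K *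
        (SymplecticGroup.symJ (Fin 2) F * lower T hT * (SymplecticGroup.symJ (Fin 2) F)⁻¹) := by
  obtain ⟨P, hP⟩ := P
  obtain ⟨A, B, C, D, rfl⟩ : ∃ A B C D, P = fromBlocks A B C D :=
    ⟨_, _, _, _, (fromBlocks_toBlocks P).symm⟩
  simp only [toBlocks_fromBlocks₁₁] at hK
  have hmem := SymplecticGroup.mem_iff'.1 hP
  rw [Matrix.J, fromBlocks_transpose, fromBlocks_multiply, fromBlocks_multiply] at hmem
  simp only [Matrix.mul_zero, Matrix.mul_one, Matrix.mul_neg, zero_add, add_zero, Matrix.neg_mul] at hmem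
  obtain ⟨e11, e12, e21, e22⟩ := fromBlocks_inj.1 hmem
  subst hK
  set H := (K : Matrix (Fin 2) (Fin 2) F)
  set H' := (↑K⁻¹ : Matrix (Fin 2) (Fin 2) F)
  have k1 : H * H' = 1 := K.mul_inv
  have k2 : H' * H = 1 := K.inv_mul
  have k3 : H'ᵀ * Hᵀ = 1 := by rw [← transpose_mul, k1, transpose_one]
  have k4 : Hᵀ * H'ᵀ = 1 := by rw [← transpose_mul, k2, transpose_one]
  have a11 : Cᵀ * H = Hᵀ * C := by
    rw [← sub_eq_zero, sub_eq_add_neg]; exact e11
  have hS : (C * H')ᵀ = C * H' := by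
    have := congrArg (fun X => H'ᵀ * X * H') a11
    simp only [Matrix.mul_assoc, k1, Matrix.mul_one] at this
    rw [← Matrix.mul_assoc H'ᵀ Hᵀ, k3, Matrix.one_mul] at this
    rw [transpose_mul]; exact this
  -- the upper unipotent part
  have a12 : Cᵀ * B - Hᵀ * D = -1 := by
    rw [sub_eq_add_neg]; exact e12
  have hD : Hᵀ * (D - C * H' * B) = 1 := by
    have hC : Hᵀ * (C * H' * B) = Cᵀ * B := by
      rw [← Matrix.mul_assoc, ← Matrix.mul_assoc, ← a11, Matrix.mul_assoc Cᵀ H H', k1,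
        Matrix.mul_one]
    rw [Matrix.mul_sub, hC, ← neg_sub (Cᵀ * B), a12, neg_neg]
  have hD' : D = C * H' * B + H'ᵀ := by
    have := congrArg (H'ᵀ * ·) hD
    simp only [← Matrix.mul_assoc H'ᵀ Hᵀ, k3, Matrix.one_mul, Matrix.mul_one] at this
    rw [← this]; abel
  have hTs : (-(H' * B))ᵀ = -(H' * B) := by
    have a22 : Dᵀ * B = Bᵀ * D := by
      rw [← sub_eq_zero, sub_eq_add_neg]; exact e22
    rw [hD', transpose_add, transpose_mul, transpose_transpose, Matrix.add_mul, Matrix.mul_add,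
      Matrix.mul_assoc Bᵀ, hS] at a22
    rw [transpose_neg, neg_inj, transpose_mul]
    exact (add_left_cancel a22).symm
  refine ⟨C * H', -(H' * B), hS, hTs, ?_⟩
  rw [← mul_assoc, eq_mul_inv_iff_mul_eq]
  apply Subtype.ext
  show fromBlocks H B C D * Matrix.J (Fin 2) F =
    fromBlocks 1 0 (C * H') 1 * fromBlocks H 0 0 H'ᵀ *
      (Matrix.J (Fin 2) F * fromBlocks 1 0 (-(H' * B)) 1)
  simp only [Matrix.J, fromBlocks_multiply, Matrix.mul_zero, Matrix.zero_mul, Matrix.mul_one,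
    Matrix.one_mul, add_zero, zero_add, Matrix.mul_neg, Matrix.neg_mul, neg_neg]
  rw [fromBlocks_inj]
  refine ⟨?_, rfl, ?_, ?_⟩
  · rw [← Matrix.mul_assoc, k1, Matrix.one_mul]
  · rw [hD', Matrix.mul_assoc C H' H, k2, Matrix.mul_one, Matrix.mul_assoc C H' B]
    simp
  · rw [Matrix.mul_assoc C H' H, k2, Matrix.mul_one]

/-- If the Levi block splits as `H * twist N` with both factors in the class, the element is a
product of two conjugates. -/
theorem Par.good_of_block [Finite F] (π : Par F) (P : Sp4 F) (H N : GL (Fin 2) F)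
    (hH : π.Has H) (hN : π.Has N)
    (hblock : (P : Matrix (Fin 2 ⊕ Fin 2) (Fin 2 ⊕ Fin 2) F).toBlocks₁₁ =
      ((H * twist N : GL (Fin 2) F) : Matrix (Fin 2) (Fin 2) F)) : π.Good P := by
  obtain ⟨S, T, hS, hT, hP⟩ := exists_decomp P (H * twist N) hblock
  obtain ⟨cH, hcH⟩ := π.exists_levi_conj hH
  obtain ⟨cN, hcN⟩ := π.exists_levi_conj hN
  have hcond : ∀ {K : GL (Fin 2) F}, π.Has K →
      (K : Matrix (Fin 2) (Fin 2) F).det ≠ 1 ∧
      ((K : Matrix (Fin 2) (Fin 2) F).det + 1) ^ 2 ≠ (K : Matrix (Fin 2) (Fin 2) F).trace ^ 2 :=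
    fun hK => by rw [hK.1, hK.2]; exact ⟨π.n_ne_one, π.sq_ne⟩
  obtain ⟨r, hr⟩ := exists_lower_conj H (hcond hH).1 (hcond hH).2 S hS
  obtain ⟨r', hr'⟩ := exists_lower_conj N (hcond hN).1 (hcond hN).2 T hT
  set J := SymplecticGroup.symJ (Fin 2) F
  refine ⟨r * cH, J * (lower T hT)⁻¹ * r' * cN, ?_⟩
  rw [hP, map_mul, ← symJ_mul_levi]
  calc lower S hS * (levi H * (J * levi N * J⁻¹)) * (J * lower T hT * J⁻¹)
      = (lower S hS * levi H) *
          (J * (lower T hT)⁻¹ * (lower T hT * levi N) * lower T hT * J⁻¹) := by group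
    _ = _ := by rw [hr, hr', hcH, hcN]; group

end Cfsg.Agent.Lib.SpFourCC
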